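import Mathlib.FieldTheory.IsPerfectClosure
import Mathlib.RingTheory.Flat.EquationalCriterion
import Mathlib.RingTheory.RingHom.Flat
import Mathlib.RingTheory.RingHom.FaithfullyFlat
import Mathlib.RingTheory.Flat.FaithfullyFlat.Basic
import Mathlib.Algebra.CharP.Lemmas

/-!
# The perfection of a flat map is flat
-/

universe u

namespace GrothLib.PerfFlat

variable (p : ℕ) [hp : Fact p.Prime] {A B A' B' : Type u} [CommRing A] [CommRing B] [CommRing A'] [CommRing B']
  [CharP A p] [CharP B p] [CharP A' p] [CharP B' p] [PerfectRing A' p] [PerfectRing B' p]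
  (φ : A →+* B) (i : A →+* A') (j : B →+* B') [IsPRadical i p] [IsPRadical j p] (φ' : A' →+* B')

omit [CharP A p] [CharP B p] [CharP A' p] [CharP B' p] [PerfectRing A' p] [PerfectRing B' p] hp in
theorem exists_lifts {l : ℕ} (f : Fin l → A') (x : Fin l → B') :
    ∃ (N : ℕ) (a : Fin l → A) (b : Fin l → B), (∀ s, i (a s) = f s ^ p ^ N) ∧ (∀ s, j (b s) = x s ^ p ^ N) := by
  choose n a ha using fun s => IsPRadical.pow_mem i p (f s)
  choose m b hb using fun s => IsPRadical.pow_mem j p (x s)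
  let N := Finset.univ.sup fun s => n s + m s
  have hN : ∀ s, n s ≤ N ∧ m s ≤ N := fun s => by
    have := Finset.le_sup (f := fun s => n s + m s) (Finset.mem_univ s)
    constructor <;> (change _ ≤ Finset.univ.sup _; omega)
  refine ⟨N, fun s => a s ^ p ^ (N - n s), fun s => b s ^ p ^ (N - m s), fun s => ?_, fun s => ?_⟩
  · rw [map_pow, ha, ← pow_mul, ← pow_add, Nat.add_sub_cancel' (hN s).1]
  · rw [map_pow, hb, ← pow_mul, ← pow_add, Nat.add_sub_cancel' (hN s).2]

/-- A relation in the perfect closures comes from one in the original rings. -/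
theorem exists_relation (hφ : φ'.comp i = j.comp φ) {l : ℕ} (f : Fin l → A') (x : Fin l → B') (c : A') (z : B)
    (N₀ : ℕ) (hz : ∀ N, N₀ ≤ N → j (z ^ p ^ (N - N₀)) = φ' (c ^ p ^ N)) (h : ∑ s, φ' (f s) * x s = φ' c) :
    ∃ (N : ℕ) (a : Fin l → A) (b : Fin l → B), N₀ ≤ N ∧ (∀ s, i (a s) = f s ^ p ^ N) ∧
      (∀ s, j (b s) = x s ^ p ^ N) ∧ ∑ s, φ (a s) * b s = z ^ p ^ (N - N₀) := by
  obtain ⟨N, a, b, ha, hb⟩ := exists_lifts p i j f x
  let M := N + N₀
  have hker : (∑ s, φ (a s ^ p ^ N₀) * b s ^ p ^ N₀) - z ^ p ^ N ∈ RingHom.ker j := by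
    rw [RingHom.mem_ker, map_sub, map_sum, sub_eq_zero,
      show z ^ p ^ N = z ^ p ^ (M - N₀) by simp [M], hz M (by simp [M]), map_pow φ', ← h, sum_pow_char_pow]
    refine Finset.sum_congr rfl fun s _ => ?_
    rw [map_mul, map_pow, map_pow, map_pow, ← RingHom.comp_apply, ← hφ, RingHom.comp_apply, hb, ha, map_pow,
      mul_pow, ← pow_mul, ← pow_mul, ← pow_add]
  obtain ⟨m, hm⟩ := mem_pNilradical.1 (IsPRadical.ker_le j p hker)
  rw [sub_pow_char_pow, sum_pow_char_pow, sub_eq_zero] at hm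
  refine ⟨N + N₀ + m, fun s => a s ^ p ^ (N₀ + m), fun s => b s ^ p ^ (N₀ + m), by omega, fun s => ?_, fun s => ?_, ?_⟩
  · rw [map_pow, ha, ← pow_mul, ← pow_add, add_assoc]
  · rw [map_pow, hb, ← pow_mul, ← pow_add, add_assoc]
  · rw [show N + N₀ + m - N₀ = N + m by omega, pow_add p N m, pow_mul, ← hm]
    refine Finset.sum_congr rfl fun s _ => ?_
    rw [map_pow, map_pow, mul_pow, ← pow_mul, ← pow_mul, ← pow_add]

include p hp in
theorem flat (hflat : φ.Flat) (hφ : φ'.comp i = j.comp φ) : φ'.Flat := by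
  letI := φ.toAlgebra
  haveI : Module.Flat A B := hflat
  letI := φ'.toAlgebra
  refine (Module.Flat.iff_forall_isTrivialRelation (R := A') (M := B')).2 fun {l f x} h => ?_
  replace h : ∑ s, φ' (f s) * x s = φ' 0 := by
    rw [map_zero]; exact h
  obtain ⟨N, a, b, -, ha, hb, hab⟩ := exists_relation p φ i j φ' hφ f x 0 0 0 (fun N _ => by
    simp [zero_pow (pow_ne_zero N hp.out.ne_zero)]) h
  rw [zero_pow (pow_ne_zero _ hp.out.ne_zero)] at hab
  obtain ⟨k, c, y, hbc, hac⟩ := Module.Flat.isTrivialRelation_of_sum_smul_eq_zero (R := A) (M := B) (f := a) (x := b) hab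
  have hinjA : Function.Injective fun t : A' => t ^ p ^ N := (bijective_iterateFrobenius A' p N).1
  have hinjB : Function.Injective fun t : B' => t ^ p ^ N := (bijective_iterateFrobenius B' p N).1
  have hsA : ∀ t : A', ∃ r, r ^ p ^ N = t := (bijective_iterateFrobenius A' p N).2
  have hsB : ∀ t : B', ∃ r, r ^ p ^ N = t := (bijective_iterateFrobenius B' p N).2
  choose c' hc' using fun s t => hsA (i (c s t))
  choose y' hy' using fun t => hsB (j (y t))
  refine ⟨k, c', y', fun s => hinjB ?_, fun t => hinjA ?_⟩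
  · change x s ^ p ^ N = (∑ t, c' s t • y' t) ^ p ^ N
    rw [sum_pow_char_pow, ← hb, hbc s, map_sum]
    refine Finset.sum_congr rfl fun t _ => ?_
    change j (φ (c s t) * y t) = (φ' (c' s t) * y' t) ^ p ^ N
    rw [mul_pow, ← map_pow φ', hc', hy', map_mul, ← RingHom.comp_apply j φ, ← hφ, RingHom.comp_apply]
  · change (∑ s, f s * c' s t) ^ p ^ N = (0 : A') ^ p ^ N
    rw [sum_pow_char_pow, zero_pow (pow_ne_zero _ hp.out.ne_zero), ← map_zero i, ← hac t, map_sum]
    exact Finset.sum_congr rfl fun s _ => by rw [map_mul, mul_pow, ha, hc']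

include p hp in
theorem faithfullyFlat (hflat : φ.FaithfullyFlat) (hφ : φ'.comp i = j.comp φ) : φ'.FaithfullyFlat := by
  letI := φ.toAlgebra
  haveI : Module.FaithfullyFlat A B := hflat
  have hfl : φ'.Flat := flat p φ i j φ' (inferInstance : Module.Flat A B) hφ
  letI := φ'.toAlgebra
  haveI : Module.Flat A' B' := hfl
  refine { submodule_ne_top := fun m hm htop => ?_ }
  have h1 : (1 : B') ∈ m • (⊤ : Submodule A' B') := by rw [htop]; trivial
  rw [Ideal.smul_top_eq_map, Submodule.restrictScalars_mem] at h1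
  change (1 : B') ∈ Ideal.span (φ' '' (m : Set A')) at h1
  obtain ⟨l, x, g, hg⟩ := Submodule.mem_span_set'.1 h1
  choose f hfm hf using fun s => (g s).2
  have h : ∑ s, φ' (f s) * x s = φ' 1 := by
    rw [map_one, ← hg]
    exact Finset.sum_congr rfl fun s _ => by rw [hf, smul_eq_mul, mul_comm]
  obtain ⟨N, a, b, -, ha, -, hab⟩ := exists_relation p φ i j φ' hφ f x 1 1 0 (fun N _ => by simp) h
  rw [one_pow] at hab
  let q := m.comap i
  have hq : q ≠ ⊤ := Ideal.comap_ne_top _ hm.ne_top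
  obtain ⟨M, hM, hqM⟩ := Ideal.exists_le_maximal q hq
  refine Module.FaithfullyFlat.submodule_ne_top (R := A) (M := B) hM ?_
  rw [eq_top_iff]
  intro y _
  have hy : y = ∑ s, a s • (b s * y) := by
    have : ∀ s, a s • (b s * y) = φ (a s) * b s * y := fun s => by
      rw [mul_assoc]; rfl
    simp only [this, ← Finset.sum_mul, hab, one_mul]
  rw [hy]
  refine Submodule.sum_mem _ fun s _ => Submodule.smul_mem_smul (hqM ?_) Submodule.mem_top
  change i (a s) ∈ m
  rw [ha]
  exact Ideal.pow_mem_of_mem _ (hfm s) _ (pow_pos hp.out.pos N)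

end GrothLib.PerfFlat
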